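import Groth.Agent.Jac.K532.UnivDesc
import Groth.Agent.JacVar.K532.A17134
import Groth.Agent.Jac.K317.LamBC
import Groth.Agent.S2491
import Groth.Agent.S3023
import Groth.Agent.Etrest.ProperOver

/-!
# `λ_Θ` is an isomorphism and `Θ` is ample: descent to any field
-/

set_option autoImplicit false
universe u
open CategoryTheory CategoryTheory.Limits AlgebraicGeometry Opposite TopologicalSpace MonoidalCategory
  CartesianMonoidalCategory MonObj

namespace K532.LamDesc

open Groth.Agent Groth.Agent.Grpsch Groth.Agent.Grpsch.PicGrp Groth.Agent.Fga.RigGrp Groth.Agent.Fga.JacSum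
open Groth.Agent.Fga.JacAlg Groth.Agent.Picfga.ChiDef Groth.Agent.Fga.JacSurj Groth.Agent.Ega3A.PicLocBase
open Groth.Agent.Sga7.H732
open Groth.Agent.Ega3A.PicDiv Groth.Agent.Ega3A.PicEtSh Groth.Agent.Ega3A.PicSheaf
open K914.Cls K914.Fine K317.ShRep K317.CoarseBC K732.BC K532.UnivId K532.UnivDesc K914.HField

section iso

variable {k : Type u} [Field k] {K : Type u} [Field K] (a : Spec (CommRingCat.of K) ⟶ Spec (CommRingCat.of k))
  {A B : Over (Spec (CommRingCat.of k))} (g : A ⟶ B)

theorem isPullback_map : IsPullback (pullback.fst A.hom a) ((Over.pullback a).map g).left g.left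
    (pullback.fst B.hom a) := by
  have h1 : ((Over.pullback a).map g).left ≫ pullback.snd B.hom a = pullback.snd A.hom a :=
    Over.w ((Over.pullback a).map g)
  have h2 : ((Over.pullback a).map g).left ≫ pullback.fst B.hom a = pullback.fst A.hom a ≫ g.left := by
    simp only [Over.pullback]
    exact pullback.lift_fst _ _ _
  refine IsPullback.of_bot (v₂₁ := pullback.snd B.hom a) (v₂₂ := B.hom) (h₃₁ := a) ?_ h2.symm
    (IsPullback.of_hasPullback B.hom a)
  rw [h1, Over.w]
  exact IsPullback.of_hasPullback A.hom a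

theorem isIso_of_map (h : IsIso ((Over.pullback a).map g)) : IsIso g := by
  have h1 : IsIso ((Over.pullback a).map g).left := inferInstanceAs (IsIso ((Over.forget _).map ((Over.pullback a).map g)))
  have h2 := (isPullback_map a g).flip
  have hs : Surjective (pullback.fst B.hom a) := by
    have := surjective_spec a
    infer_instance
  have h3 : MorphismProperty.isomorphisms Scheme.{u} g.left :=
    MorphismProperty.of_isPullback_of_descendsAlong (P := MorphismProperty.isomorphisms Scheme.{u})
      (Q := @Surjective ⊓ @Flat ⊓ @QuasiCompact) h2 ⟨⟨hs, inferInstance⟩, inferInstance⟩ h1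
  have h4 : IsIso g.left := h3
  have : IsIso ((Over.forget _).map g) := h4
  exact isIso_of_reflects_iso g (Over.forget _)

end iso

/-- **Frozen S17134.** -/
theorem main (k : Type u) [Field k]
    (X : Scheme.{u}) [X.Over (Spec (CommRingCat.of k))]
    [IsProper (X ↘ Spec (CommRingCat.of k))] [Smooth (X ↘ Spec (CommRingCat.of k))]
    [GeometricallyConnected (X ↘ Spec (CommRingCat.of k))] (hdim : topologicalKrullDim ↥X = 1)
    (g : ℕ) (hg : Curv2.genus k X = g) (hg1 : 1 ≤ g)
    (J : Over (Spec (CommRingCat.of k))) [GrpObj J] [IsCommMonObj J]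
    (ψ : (ModFun.PicDeg (X ↘ Spec (CommRingCat.of k)) 0).Hom ⊤ J) (hJ : Jac.IsJacobian (X ↘ Spec (CommRingCat.of k)) ⊤ J ψ)
    (N : X.Modules) (hN : PicF.IsInvertible N) (hNdeg : Curv2.deg k X N 1 = (g : ℤ) - 1)
    (ΘJ : J.left.Modules) (hΘJ : Jac.IsThetaLB (X ↘ Spec (CommRingCat.of k)) 0 ψ N ΘJ)
    (Jt : Over (Spec (CommRingCat.of k))) [GrpObj Jt] [IsCommMonObj Jt]
    (φ : AgPol.DualMap J Jt) (hJt : AbDual.IsDualAV Scheme.fppfPrecoverage J Jt φ)
    (lam : J ⟶ Jt) (hlam : AgPol.IsLambda J Jt φ ΘJ lam) :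
    IsIso lam ∧ CohB1.IsAmple ΘJ := by
  let f := X ↘ Spec (CommRingCat.of k)
  let K := AlgebraicClosure k
  let a : Spec (CommRingCat.of K) ⟶ Spec (CommRingCat.of k) := Spec.map (CommRingCat.ofHom (algebraMap k K))
  have hs : SmoothOfRelativeDimension 1 f := K532.Base.smoothOfRelDim _ hdim
  have hX' : Curve.IsSmoothProperCurve k X f := K532.Base.isSmoothProperCurve f hdim
  have hSh : IsSh ψ := isSh hX' hJ.1
  have hsep : IsSeparated J.hom := isSeparated_of_coarse hX' hJ.1
  -- the curve over `K`
  let _ : (pullback f a).Over (Spec (CommRingCat.of K)) := ⟨pullback.snd f a⟩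
  have i1 : IsProper (pullback f a ↘ Spec (CommRingCat.of K)) := inferInstanceAs (IsProper (pullback.snd f a))
  have i2 : Smooth (pullback f a ↘ Spec (CommRingCat.of K)) := inferInstanceAs (Smooth (pullback.snd f a))
  have i3 : GeometricallyConnected (pullback f a ↘ Spec (CommRingCat.of K)) :=
    inferInstanceAs (GeometricallyConnected (pullback.snd f a))
  have hdK : topologicalKrullDim ↥(pullback f a) = 1 := by
    rw [← hdim]
    exact Etcore.DimBaseChange.topologicalKrullDim_eq (Field.toIsField k)
      (Field.toIsField K) f _ _ _ (IsPullback.of_hasPullback f a)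
  have hc : CompactSpace X := (quasiCompact_iff_compactSpace f).1 inferInstance
  have hqs : QuasiSeparatedSpace X := (quasiSeparated_iff_quasiSeparatedSpace f).1 inferInstance
  have hgK : Curv2.genus K (pullback f a) = g := by
    rw [K317.FieldBC.genus_bc k K (pullback.fst f a) (IsPullback.of_hasPullback f a), hg]
  have hNK : PicF.IsInvertible ((Scheme.Modules.pullback (pullback.fst f a)).obj N) :=
    Fdesc.LocGen.isInvertible_pullback _ hN
  have hdegK : Curv2.deg K (pullback f a) ((Scheme.Modules.pullback (pullback.fst f a)).obj N) 1 = (g : ℤ) - 1 := by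
    rw [K317.FieldBC.deg_bc k K (pullback.fst f a) (IsPullback.of_hasPullback f a) N
      (Ega2.QCohLocal.isQCoh_of_isInvertible hN) _ (Iso.refl _) 1, hNdeg]
  -- the degree of `N` on the fibres
  have hdN : K317.JumpPts.HasDeg f (mk N hN) ((g : ℤ) - 1) := by
    have h1 := K531.ThetaLoc.chiK_pull_fst (C := X) (𝟙 (Spec (CommRingCat.of k))) (mk N hN)
    rw [K532.CurvePic.deg_mk k X hdim, hNdeg] at h1
    intro T
    exact K533.Cst.isDeg_cst f h1 T
  have hΘK := K317.ThetaBC.isThetaLB_bc ψ a N hN hdN (n := g - 1) (by push_cast [Nat.cast_sub hg1]; ring) hΘJ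
  have hJK := isJacobian_psiK a hJ hSh
  have hsur := surjective_spec a
  obtain ⟨-, hprK, hgiK, -⟩ := K532.ThetaAmple.exists_setup (C := pullback f a) (J := Red.bc a J) (ψ := psiK a ψ) hdK hJK
  have hpr : IsProper J.hom :=
    MorphismProperty.of_isPullback_of_descendsAlong (P := @IsProper) (Q := @Surjective ⊓ @Flat ⊓ @QuasiCompact)
      (IsPullback.of_hasPullback J.hom a).flip ⟨⟨hsur, inferInstance⟩, inferInstance⟩ hprK
  have hgc : GeometricallyConnected J.hom := by
    have hi : IsIntegral (pullback J.hom a) := by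
      have : Subsingleton (Spec (CommRingCat.of K)) := inferInstanceAs (Subsingleton (PrimeSpectrum K))
      exact GeometricallyIntegral.isIntegral_of_subsingleton (Red.bc a J).hom
    have hs1 : Surjective (pullback.fst J.hom a) := inferInstance
    have hco : ConnectedSpace J.left :=
      hs1.surj.connectedSpace (pullback.fst J.hom a).continuous
    exact S3023.geometricallyConnected_of_point J.hom η[J].left (Over.w η[J])
  have hlamK := K317.LamBC.isLambda_bc a hJt hΘJ.1 hlam
  have hDK := isDualAV_bc (k := a) hJt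
  obtain ⟨h1, h2⟩ := K532.A17134.main K (pullback f a) hdK g hgK hg1 (Red.bc a J) (psiK a ψ) hJK
    ((Scheme.Modules.pullback (pullback.fst f a)).obj N) hNK hdegK
    ((Scheme.Modules.pullback (pullback.fst J.hom a)).obj ΘJ) hΘK
    (Red.bc a Jt) (AgPol.bcDual a J Jt φ) hDK ((Over.pullback a).map lam) hlamK
  refine ⟨isIso_of_map a lam h1, ?_⟩
  exact S2491.result J.hom a ΘJ hΘJ.1 h2

end K532.LamDesc
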