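import Groth.Agent.Jac.K532.TwPsi
import Groth.Agent.Jac.K532.LamDesc
import Groth.Agent.BunMod.K596.JB
import Groth.Agent.JacVar.K532.ThetaH0
import Groth.Agent.AbVar.K523.ThetaJ

/-!
# `(Θ^g) = g!` and `h⁰(Θ) = 1` for the theta divisor of degree `g - 1`, over any field (frozen S17135)
-/

set_option autoImplicit false
universe u
open CategoryTheory CategoryTheory.Limits AlgebraicGeometry Opposite TopologicalSpace MonoidalCategory
  CartesianMonoidalCategory MonObj

namespace K532.Row35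

open Groth.Agent Groth.Agent.Grpsch Groth.Agent.Grpsch.PicGrp Groth.Agent.Fga.RigGrp Groth.Agent.Fga.JacSum
open Groth.Agent.Fga.JacAlg Groth.Agent.Picfga.ChiDef Groth.Agent.Fga.JacSurj Groth.Agent.Ega3A.PicLocBase
open Groth.Agent.Sga7.H732 Groth.Agent.Fdesc.LocGen
open Groth.Agent.Ega3A.PicDiv Groth.Agent.Ega3A.PicEtSh Groth.Agent.Ega3A.PicSheaf
open K914.Cls K914.Fine K317.ShRep K317.CoarseBC K732.BC K532.UnivId K532.UnivDesc K914.HField

theorem hasDeg_structureModule {k : Type u} [Field k] {X : Scheme.{u}} (f : X ⟶ Spec (CommRingCat.of k))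
    (hO : PicF.IsInvertible (Coh.structureModule X)) : K317.JumpPts.HasDeg f (mk (Coh.structureModule X) hO) 0 := by
  intro T
  have h1 : K317.JumpPts.NT f (mk (Coh.structureModule X) hO) T = 1 := by
    rw [K317.JumpPts.NT]
    exact map_one _
  rw [h1]
  exact isDeg_one

/-- The algebraically closed case, after translation to degree zero. -/
theorem alg (K : Type u) [Field K] [IsAlgClosed K]
    (X : Scheme.{u}) [X.Over (Spec (CommRingCat.of K))]
    [IsProper (X ↘ Spec (CommRingCat.of K))] [Smooth (X ↘ Spec (CommRingCat.of K))]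
    [GeometricallyConnected (X ↘ Spec (CommRingCat.of K))] (hdim : topologicalKrullDim ↥X = 1)
    [SmoothOfRelativeDimension 1 (X ↘ Spec (CommRingCat.of K))]
    (g : ℕ) (hg : Curv2.genus K X = g) (hg1 : 1 ≤ g) (J : Over (Spec (CommRingCat.of K)))
    (ψ : (ModFun.PicDeg (X ↘ Spec (CommRingCat.of K)) ((g : ℤ) - 1)).Hom ⊤ J) (hSh : IsSh ψ)
    (Θ : J.left.Modules) (hΘ : Jac.IsThetaLB (X ↘ Spec (CommRingCat.of K)) ((g : ℤ) - 1) ψ (Coh.structureModule X) Θ)
    (M : J.left.Modules) (hM : Nonempty (CohB1.tensorMod Θ M ≅ Coh.structureModule J.left)) :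
    CompactSpace J.left ∧
      @FGA.intNum K _ J.left ⟨J.hom⟩ g g (fun _ : Fin g => M) (Coh.structureModule J.left) = (Nat.factorial g : ℤ) ∧
      @Module.finrank K (Coh.HH J.left Θ 0) _ _ (@Coh.moduleOver K _ J.left ⟨J.hom⟩ Θ 0) = 1 := by
  have hX' := K532.Base.isSmoothProperCurve (X ↘ Spec (CommRingCat.of K)) hdim
  have hXc := K532.CurvePic.isCurve_of_isAlgClosed K X hX'
  have hint := hXc.integral
  obtain ⟨x, -⟩ := K532.CurvePts.exists_kpt hXc (⊤ : X.Opens) ⟨genericPoint X, trivial⟩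
  obtain ⟨N, hN, hNc⟩ := exists_mk ((K532.CurvePts.pcl hXc x)⁻¹ ^ (g - 1))
  have hdegN : Curv2.deg K X N 1 = (g : ℤ) - 1 := by
    rw [← K532.CurvePic.deg_mk K X hdim hN, ← hNc, K532.CurvePic.deg_pow hXc, K532.CurvePic.deg_inv hXc,
      K532.CurvePts.deg_pcl]
    push_cast [Nat.cast_sub hg1]
    ring
  have hdN : K317.JumpPts.HasDeg (X ↘ Spec (CommRingCat.of K)) (mk N hN) ((g : ℤ) - 1) := by
    have h1 := K531.ThetaLoc.chiK_pull_fst (C := X) (𝟙 (Spec (CommRingCat.of K))) (mk N hN)
    rw [K532.CurvePic.deg_mk K X hdim, hdegN] at h1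
    intro T
    exact K533.Cst.isDeg_cst (X ↘ Spec (CommRingCat.of K)) h1 T
  have hd : (0 : ℤ) + ((g : ℤ) - 1) = (g : ℤ) - 1 := zero_add _
  have hSh0 := K532.TwPsi.isSh_tw (mk N hN) hdN hd hSh
  obtain ⟨hGrp, hComm, hJac⟩ := BunMod.K596.JB.exists_isJacobian K X hdim J _ hSh0.isCoarse
  have hO : PicF.IsInvertible (Coh.structureModule X) := isInvertible_structureModule
  have hΘ0 := K532.TwPsi.isThetaLB_tw ψ (mk N hN) hdN hd hO hN (by
    have h1 : (1 : Pic X) = mk (Coh.structureModule X) hO := one_def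
    rw [← h1, _root_.one_mul]) hΘ
  have hA := BunMod.K596.JB.ppav K X hdim g hg hg1 N hN hdegN J _ hJac Θ hΘ0
  have hpr := hA.proper
  have hgi := hA.gint
  have hchi := K523.ThetaJ.chi_eq_one hdim hJac g hg hg1 N hN hdegN Θ hΘ0 hA.dim hA.ample
  refine ⟨(quasiCompact_iff_compactSpace J.hom).1 inferInstance, ?_, K532.ThetaH0.theta_h0 hdim hJac g hg hg1 N hN hdegN Θ hΘ0⟩
  have h1 := K523.ThetaPow.intNum_eq g hA.dim Θ M hA.ample.1 hM
  rw [hchi, _root_.mul_one] at h1
  exact h1.symm

/-- **Frozen S17135.** -/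
theorem main (k : Type u) [Field k]
    (X : Scheme.{u}) [X.Over (Spec (CommRingCat.of k))]
    [IsProper (X ↘ Spec (CommRingCat.of k))] [Smooth (X ↘ Spec (CommRingCat.of k))]
    [GeometricallyConnected (X ↘ Spec (CommRingCat.of k))] (hdim : topologicalKrullDim ↥X = 1)
    (g : ℕ) (hg : Curv2.genus k X = g) (hg1 : 1 ≤ g)
    (J' : Scheme.{u}) [J'.Over (Spec (CommRingCat.of k))]
    (ψ' : (ModFun.PicDeg (X ↘ Spec (CommRingCat.of k)) ((g : ℤ) - 1)).Hom ⊤ (Over.mk (J' ↘ Spec (CommRingCat.of k))))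
    (hJ' : ModFun.IsCoarseModuli ⊤ (ModFun.PicDeg (X ↘ Spec (CommRingCat.of k)) ((g : ℤ) - 1)) (Over.mk (J' ↘ Spec (CommRingCat.of k))) ψ')
    (Θ' : J'.Modules) (hΘ' : Jac.IsThetaLB (X ↘ Spec (CommRingCat.of k)) ((g : ℤ) - 1) ψ' (Coh.structureModule X) Θ')
    (Θinv : J'.Modules) (hΘinv : Nonempty (CohB1.tensorMod Θ' Θinv ≅ Coh.structureModule J')) :
    FGA.intNum k J' g (fun _ : Fin g => Θinv) (Coh.structureModule J') = (Nat.factorial g : ℤ) ∧
      Module.finrank k (Coh.HH J' Θ' 0) = 1 := by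
  let f := X ↘ Spec (CommRingCat.of k)
  let K := AlgebraicClosure k
  let a : Spec (CommRingCat.of K) ⟶ Spec (CommRingCat.of k) := Spec.map (CommRingCat.ofHom (algebraMap k K))
  let J : Over (Spec (CommRingCat.of k)) := Over.mk (J' ↘ Spec (CommRingCat.of k))
  have hs : SmoothOfRelativeDimension 1 f := K532.Base.smoothOfRelDim _ hdim
  have hX' : Curve.IsSmoothProperCurve k X f := K532.Base.isSmoothProperCurve f hdim
  have hSh : IsSh ψ' := isSh hX' hJ'
  have hsep : IsSeparated J.hom := isSeparated_of_coarse hX' hJ'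
  -- the curve over `K`
  let _ : (pullback f a).Over (Spec (CommRingCat.of K)) := ⟨pullback.snd f a⟩
  have i1 : IsProper (pullback f a ↘ Spec (CommRingCat.of K)) := inferInstanceAs (IsProper (pullback.snd f a))
  have i2 : Smooth (pullback f a ↘ Spec (CommRingCat.of K)) := inferInstanceAs (Smooth (pullback.snd f a))
  have i3 : GeometricallyConnected (pullback f a ↘ Spec (CommRingCat.of K)) :=
    inferInstanceAs (GeometricallyConnected (pullback.snd f a))
  have i4 : SmoothOfRelativeDimension 1 (pullback f a ↘ Spec (CommRingCat.of K)) :=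
    K317.CoarseBC.smooth1_snd a (f := f)
  have hdK : topologicalKrullDim ↥(pullback f a) = 1 := by
    rw [← hdim]
    exact Etcore.DimBaseChange.topologicalKrullDim_eq (Field.toIsField k)
      (Field.toIsField K) f _ _ _ (IsPullback.of_hasPullback f a)
  have hc : CompactSpace X := (quasiCompact_iff_compactSpace f).1 inferInstance
  have hqs : QuasiSeparatedSpace X := (quasiSeparated_iff_quasiSeparatedSpace f).1 inferInstance
  have hgK : Curv2.genus K (pullback f a) = g := by
    rw [K317.FieldBC.genus_bc k K (pullback.fst f a) (IsPullback.of_hasPullback f a), hg]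
  have hO : PicF.IsInvertible (Coh.structureModule X) := isInvertible_structureModule
  have hΘK := K317.ThetaBC.isThetaLB_bc ψ' a (Coh.structureModule X) hO (hasDeg_structureModule f hO) (n := g - 1)
    (by push_cast [Nat.cast_sub hg1]; ring) hΘ'
  have hΘK' := isThetaLB_congr (M' := Coh.structureModule (pullback f a)) (ψ := psiK a ψ')
    (isInvertible_pullback _ hO) (Ega3B.PullTensor.nonempty_pullUnitIso (pullback.fst f a)).some hΘK
  obtain ⟨e⟩ := hΘinv
  have hinv : PicF.IsInvertible Θinv := Fga.IntAdd.isInvertible_of_tensor e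
  have heK : Nonempty (CohB1.tensorMod ((Scheme.Modules.pullback (pullback.fst J.hom a)).obj Θ')
      ((Scheme.Modules.pullback (pullback.fst J.hom a)).obj Θinv) ≅ Coh.structureModule (pullback J.hom a)) := by
    rw [← mk_eq_iff (isInvertible_tensorMod (isInvertible_pullback _ hΘ'.1) (isInvertible_pullback _ hinv))
      isInvertible_structureModule, ← mk_mul_mk (isInvertible_pullback _ hΘ'.1) (isInvertible_pullback _ hinv),
      ← pull_mk _ hΘ'.1, ← pull_mk _ hinv, ← map_mul, ← one_def]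
    have h1 : mk Θ' hΘ'.1 * mk Θinv hinv = 1 := by
      rw [mk_mul_mk, one_def, mk_eq_iff]
      exact ⟨e⟩
    rw [h1, map_one]
  obtain ⟨h0, h1, h2⟩ := alg K (pullback f a) hdK g hgK hg1 (Red.bc a J) (psiK a ψ') (isSh_psiK a hSh)
    ((Scheme.Modules.pullback (pullback.fst J.hom a)).obj Θ') hΘK'
    ((Scheme.Modules.pullback (pullback.fst J.hom a)).obj Θinv) heK
  have hcJ : CompactSpace J.left := by
    have hsur := surjective_spec a
    have hs1 : Surjective (pullback.fst J.hom a) := inferInstance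
    have h3 : CompactSpace ↥(pullback J.hom a) := h0
    exact ⟨by
      have h4 := isCompact_range (pullback.fst J.hom a).continuous
      rwa [hs1.surj.range_eq] at h4⟩
  have hqJ : QuasiSeparatedSpace J.left := (quasiSeparated_iff_quasiSeparatedSpace J.hom).1 inferInstance
  let _ : (pullback J.hom a).Over (Spec (CommRingCat.of K)) := ⟨(Red.bc a J).hom⟩
  refine ⟨?_, ?_⟩
  · rw [← h1]
    exact (K317.FieldBC.intNum_bc k K (pullback.fst J.hom a) (IsPullback.of_hasPullback J.hom a) g (fun _ => Θinv)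
      fun _ => hinv).symm
  · rw [← h2]
    exact (K317.FieldBC.finrank_bc k K (pullback.fst J.hom a) (IsPullback.of_hasPullback J.hom a) Θ'
      (Ega2.QCohLocal.isQCoh_of_isInvertible hΘ'.1) _ (Iso.refl _) 0).symm

end K532.Row35
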