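import Groth.Agent.Jac.K532.UnivDesc

/-!
# Twisting the classifying morphism of a Picard scheme by a class of the curve

* `tw ψ N` : `PicDeg f e ⟶ J`, `L ↦ ψ (L ⊗ N)`; `psiCl_tw`, `isSh_tw`, `jumpLocus_tw`, `isThetaLB_tw`.
-/

set_option autoImplicit false
universe u
open CategoryTheory CategoryTheory.Limits AlgebraicGeometry Opposite TopologicalSpace MonoidalCategory
  CartesianMonoidalCategory

namespace K532.TwPsi

open Groth.Agent Groth.Agent.Grpsch Groth.Agent.Grpsch.PicGrp Groth.Agent.Fga.RigGrp Groth.Agent.Fga.JacSum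
open Groth.Agent.Fga.JacAlg Groth.Agent.Picfga.ChiDef Groth.Agent.Fga.JacSurj Groth.Agent.Ega3A.PicLocBase
open Groth.Agent.Sga7.H732
open Groth.Agent.Ega3A.PicDiv Groth.Agent.Ega3A.PicEtSh Groth.Agent.Ega3A.PicSheaf
open Groth.Agent.Fdesc.LocGen K914.Cls K914.Fine K914.HField K317.ShRep K317.JumpPts K532.UnivId K532.UnivDesc

variable {k : Type u} [Field k] {X : Scheme.{u}} {f : X ⟶ Spec (CommRingCat.of k)}
  [IsProper f] [Smooth f] [GeometricallyConnected f] [SmoothOfRelativeDimension 1 f]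
  {d e m : ℤ} {J : Over (Spec (CommRingCat.of k))} (ψ : (ModFun.PicDeg f d).Hom ⊤ J) (N : Pic X)
  (hN : HasDeg f N m) (hd : e + m = d)

include hN hd in
theorem isDeg_tw {T : Over (Spec (CommRingCat.of k))} {c : Pic (PicF.XT f T)} (hc : IsDeg f e c) :
    IsDeg f d (c * NT f N T) := hd ▸ hc.mul (hN T)

include hN hd in
theorem isDeg_untw {T : Over (Spec (CommRingCat.of k))} {c : Pic (PicF.XT f T)} (hc : IsDeg f d c) :
    IsDeg f e (c * (NT f N T)⁻¹) := by
  have h := hc.mul (hN T).inv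
  have h1 : d + -m = e := by rw [← hd]; ring
  rw [h1] at h
  exact h

/-- `L ↦ ψ (L ⊗ N)`. -/
noncomputable def tw : (ModFun.PicDeg f e).Hom ⊤ J where
  app T L _ hL := psiCl ψ (mk L (isInvertible_of_ok hL) * NT f N T) (isDeg_tw N hN hd (isDeg_of_ok hL))
  natural := by
    intro T T' g L _ _ hL hL'
    rw [comp_psiCl ψ g _ _]
    apply psiCl_congr
    rw [map_mul, pull_NT]
    exact congrArg (fun z => z * NT f N T') (pull_mk (PicF.XTmap f g) (isInvertible_of_ok hL)).symm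
  resp := by
    intro T L L' _ hL hL' hr
    obtain ⟨M, hM, ⟨e1⟩⟩ := hr
    have hr' : mk L' (isInvertible_of_ok hL') = mk L (isInvertible_of_ok hL) *
        pull (PicF.XTproj f T) (mk M hM) :=
      (mk_congr (hL := isInvertible_of_ok hL') (hM := isInvertible_tensorMod (isInvertible_of_ok hL)
        (isInvertible_pullback _ hM)) e1).trans
        ((mk_mul_mk (isInvertible_of_ok hL) (isInvertible_pullback _ hM)).symm.trans (by rw [pull_mk]))
    refine psiCl_mul_proj ψ _ _ (mk M hM) _ _ ?_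
    rw [hr', mul_right_comm]

theorem psiCl_tw {T : Over (Spec (CommRingCat.of k))} (c : Pic (PicF.XT f T)) (hc : IsDeg f e c) :
    psiCl (tw ψ N hN hd) c hc = psiCl ψ (c * NT f N T) (isDeg_tw N hN hd hc) := by
  obtain ⟨L, hL, rfl⟩ := exists_mk c
  rw [← app_eq (tw ψ N hN hd) trivial ((ok_iff hL).2 hc) _ hc rfl]
  rfl

variable {ψ} in
theorem isSh_tw (h : IsSh ψ) : IsSh (tw ψ N hN hd) := by
  refine ⟨fun T g => ?_, fun T c c' hc hc' e1 => ?_⟩
  · obtain ⟨𝒰, c, hc, hU⟩ := h.surj T g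
    refine ⟨𝒰, fun i => c i * (NT f N (𝒰.V i))⁻¹, fun i => isDeg_untw N hN hd (hc i), fun i => ?_⟩
    rw [psiCl_tw, ← hU i]
    apply psiCl_congr
    rw [inv_mul_cancel_right]
  · rw [psiCl_tw, psiCl_tw] at e1
    obtain ⟨𝒰, h1⟩ := h.inj T _ _ _ _ e1
    refine ⟨𝒰, fun i => ?_⟩
    have h2 := h1 i
    rw [map_mul, map_mul] at h2
    exact mul_right_cancel h2

theorem jumpLocus_tw {M M' : X.Modules} (hM : PicF.IsInvertible M) (hM' : PicF.IsInvertible M')
    (h : mk M' hM' = mk M hM * N) :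
    Jac.jumpLocus f e (tw ψ N hN hd) M' = Jac.jumpLocus f d ψ M := by
  have hNT : ∀ T : Over (Spec (CommRingCat.of k)), NT f (mk M' hM') T = NT f (mk M hM) T * NT f N T := fun T => by
    rw [h, NT, map_mul]
    rfl
  ext y
  rw [K317.ThetaBC.mem_jumpLocus_iff' _ M' hM', K317.ThetaBC.mem_jumpLocus_iff' ψ M hM]
  constructor
  · rintro ⟨Ω, _, _, t, c, hc, h0, p, hp⟩
    refine ⟨Ω, inferInstance, inferInstance, t, c * NT f N (Over.mk t), isDeg_tw N hN hd hc, ?_, p, ?_⟩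
    · rwa [mul_assoc, mul_comm (NT f N (Over.mk t)), ← hNT]
    · rw [← hp, psiCl_tw]
  · rintro ⟨Ω, _, _, t, c, hc, h0, p, hp⟩
    refine ⟨Ω, inferInstance, inferInstance, t, c * (NT f N (Over.mk t))⁻¹, isDeg_untw N hN hd hc, ?_, p, ?_⟩
    · rwa [hNT, mul_comm (NT f (mk M hM) (Over.mk t)), ← mul_assoc, inv_mul_cancel_right]
    · have e1 : psiCl ψ (c * (NT f N (Over.mk t))⁻¹ * NT f N (Over.mk t))
          (isDeg_tw N hN hd (isDeg_untw N hN hd hc)) = psiCl ψ c hc :=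
        psiCl_congr ψ (inv_mul_cancel_right c (NT f N (Over.mk t))) _
      rw [← hp, psiCl_tw, e1]

theorem isThetaLB_tw {M M' : X.Modules} (hM : PicF.IsInvertible M) (hM' : PicF.IsInvertible M')
    (h : mk M' hM' = mk M hM * N) {Θ : J.left.Modules} (hΘ : Jac.IsThetaLB f d ψ M Θ) :
    Jac.IsThetaLB f e (tw ψ N hN hd) M' Θ := by
  have h1 : Jac.thetaLocus f e (tw ψ N hN hd) M' = Jac.thetaLocus f d ψ M := by
    rw [Jac.thetaLocus, Jac.thetaLocus, jumpLocus_tw ψ N hN hd hM hM' h]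
  refine ⟨hΘ.1, ?_⟩
  have h2 := hΘ.2
  simp only [← h1] at h2
  exact h2

end K532.TwPsi
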