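import Groth.Agent.Jac.K532.UnivId
import Groth.Agent.Jac.K317.ThetaBC
import Groth.Agent.Jac.K317.FieldBC
import Groth.Agent.FormalB.PicProper
import Groth.Agent.Sga7.H780.JK

/-!
# Descent of universal families of degree `g` along a field extension

* `tr_gcl`: classes of graphs after base change. `fmK`, `isSub_psiK`.
* `isUnivFamily_of_isSh`: a family classified by the identity is universal.
* `isSeparated_of_coarse`.
-/

set_option autoImplicit false
universe u
open CategoryTheory CategoryTheory.Limits AlgebraicGeometry Opposite TopologicalSpace MonoidalCategory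
  CartesianMonoidalCategory

namespace K532.UnivDesc

open Groth.Agent Groth.Agent.Grpsch Groth.Agent.Grpsch.PicGrp Groth.Agent.Fga.RigGrp Groth.Agent.Fga.JacSum
open Groth.Agent.Fga.JacAlg Groth.Agent.Picfga.ChiDef Groth.Agent.Fga.JacSurj Groth.Agent.Ega3A.PicLocBase
open Groth.Agent.Sga7.H732
open Groth.Agent.Ega3A.PicDiv Groth.Agent.Ega3A.PicEtSh Groth.Agent.Ega3A.PicSheaf
open K914.Cls K914.Fine K317.ShRep K317.CoarseBC K732.BC K532.UnivId

section gcl

variable {k : Type u} [Field k] {X : Scheme.{u}} {f : X ⟶ Spec (CommRingCat.of k)}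
  {K : Type u} [Field K] (a : Spec (CommRingCat.of K) ⟶ Spec (CommRingCat.of k))

/-- The point of `X` under a point of `X_K`. -/
noncomputable def dnPt {T : Over (Spec (CommRingCat.of K))} (x : Pt (pullback.snd f a) T) :
    Pt f ((Over.map a).obj T) :=
  ⟨x.1 ≫ pullback.fst f a, by
    change (x.1 ≫ pullback.fst f a) ≫ f = T.hom ≫ a
    rw [Category.assoc, pullback.condition, ← Category.assoc, x.2]⟩

variable [IsSeparated f] [SmoothOfRelativeDimension 1 f]

theorem tr_gcl {T : Over (Spec (CommRingCat.of K))} (x : Pt (pullback.snd f a) T) :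
    tr a T (gcl (pullback.snd f a) x) = gcl f (dnPt a x) := by
  let s : T.left ⟶ PicF.XT (pullback.snd f a) T := pullback.lift x.1 (𝟙 T.left) (by simpa using x.2)
  let s' : T.left ⟶ PicF.XT f ((Over.map a).obj T) := pullback.lift (dnPt a x).1 (𝟙 T.left) (by simpa using (dnPt a x).2)
  have h : s' ≫ (eT f a T).hom = s := by
    apply pullback.hom_ext
    · apply pullback.hom_ext
      · rw [Category.assoc, Category.assoc, eT_hom_fst_fst]
        have e1 : s' ≫ pullback.fst f ((Over.map a).obj T).hom = x.1 ≫ pullback.fst f a := pullback.lift_fst _ _ _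
        have e2 : s ≫ pullback.fst (pullback.snd f a) T.hom = x.1 := pullback.lift_fst _ _ _
        rw [e1, e2]
      · have e1 : s' ≫ pullback.snd f ((Over.map a).obj T).hom = 𝟙 T.left := pullback.lift_snd _ _ _
        have e2 : s ≫ pullback.fst (pullback.snd f a) T.hom = x.1 := pullback.lift_fst _ _ _
        have e3 : (eT f a T).hom ≫ pullback.snd (pullback.snd f a) T.hom = pullback.snd f ((Over.map a).obj T).hom :=
          eT_hom_snd f a T
        rw [e2, x.2, Category.assoc, Category.assoc, pullback.condition, reassoc_of% e3, reassoc_of% e1]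
    · have e1 : s' ≫ pullback.snd f ((Over.map a).obj T).hom = 𝟙 T.left := pullback.lift_snd _ _ _
      have e2 : s ≫ pullback.snd (pullback.snd f a) T.hom = 𝟙 T.left := pullback.lift_snd _ _ _
      have e3 : (eT f a T).hom ≫ pullback.snd (pullback.snd f a) T.hom = pullback.snd f ((Over.map a).obj T).hom :=
        eT_hom_snd f a T
      rw [Category.assoc, e3, e1, e2]
  have hcl : IsClosedImmersion s := by
    have h1 : IsClosedImmersion (s ≫ pullback.snd (pullback.snd f a) T.hom) := by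
      have e2 : s ≫ pullback.snd (pullback.snd f a) T.hom = 𝟙 T.left := pullback.lift_snd _ _ _
      rw [e2]
      infer_instance
    exact IsClosedImmersion.of_comp _ (pullback.snd (pullback.snd f a) T.hom)
  have hpb : IsPullback (𝟙 T.left) s' s (eT f a T).hom := IsPullback.of_horiz_isIso ⟨by rw [Category.id_comp, h]⟩
  have h1 : (HilbD.secGraph (pullback.snd f a) T x.1 x.2).comap (eT f a T).hom =
      HilbD.secGraph f ((Over.map a).obj T) (dnPt a x).1 (dnPt a x).2 :=
    (Picfga.SecGraph.ker_eq_comap_of_isPullback hpb).symm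
  rw [gcl, gcl, tr, pull_mk, mk_eq_iff]
  have h2 := Dix.IdealModCartier.pullback_idealMod (eT f a T).hom (isEff_secGraph (pullback.snd f a) x)
    (by rw [h1]; exact isEff_secGraph f (dnPt a x))
  rwa [h1] at h2

end gcl

section fm

variable {k : Type u} [Field k] {X : Scheme.{u}} {f : X ⟶ Spec (CommRingCat.of k)}
  {K : Type u} [Field K] (a : Spec (CommRingCat.of K) ⟶ Spec (CommRingCat.of k))
  [IsProper f] [Smooth f] [GeometricallyConnected f] [SmoothOfRelativeDimension 1 f]
  {d : ℤ} {Jg J' : Over (Spec (CommRingCat.of k))} {ψg : (ModFun.PicDeg f d).Hom ⊤ Jg}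
  {ψ' : (ModFun.PicDeg f (d - 1)).Hom ⊤ J'}

/-- The projection `X_K ⟶ X`. -/
noncomputable def prX (f : X ⟶ Spec (CommRingCat.of k)) :
    dn a (Over.mk (pullback.snd f a)) ⟶ Over.mk f :=
  Over.homMk (pullback.fst f a) pullback.condition

/-- The projection from the product. -/
noncomputable def pp (f : X ⟶ Spec (CommRingCat.of k)) (Jg : Over (Spec (CommRingCat.of k))) :
    dn a (Over.mk (pullback.snd f a) ⊗ Red.bc a Jg) ⟶ Over.mk f ⊗ Jg :=
  lift (dnMap a (fst (Over.mk (pullback.snd f a)) (Red.bc a Jg)) ≫ prX a f)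
    (dnMap a (snd (Over.mk (pullback.snd f a)) (Red.bc a Jg)) ≫ prj a Jg)

/-- The base change of `fm`. -/
noncomputable def fmK (fm : Over.mk f ⊗ Jg ⟶ J') : Over.mk (pullback.snd f a) ⊗ Red.bc a Jg ⟶ Red.bc a J' :=
  up (k := a) (pp a f Jg ≫ fm)

theorem isSub_psiK {fm : Over.mk f ⊗ Jg ⟶ J'} (hfm : IsSub ψg ψ' fm) :
    IsSub (psiK a ψg) (psiK a ψ') (fmK a fm) := by
  intro T x c hc hc'
  rw [psiCl_psiK, psiCl_psiK, fmK, comp_up]
  congr 1
  have e1 : tr a T (c * gcl (pullback.snd f a) x) = tr a T c * gcl f (dnPt a x) := by rw [tr_mul, tr_gcl]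
  have h1 : IsDeg f (d - 1) (tr a T c * gcl f (dnPt a x)) := by
    rw [← e1]
    exact (isDeg_tr a).2 hc'
  rw [psiCl_congr ψ' e1, hfm ((Over.map a).obj T) (dnPt a x) (tr a T c) ((isDeg_tr a).2 hc) h1]
  rw [← Category.assoc]
  congr 1
  rw [pp, comp_lift]
  congr 1
  · ext1
    have h2 := congrArg (fun q => Over.Hom.left q)
      (lift_fst (Abel.ptHom x) (up (k := a) (U := T) (psiCl ψg (tr a T c) ((isDeg_tr a).2 hc))))
    change x.1 ≫ pullback.fst f a = _ ≫ _ ≫ pullback.fst f a
    refine Eq.trans ?_ (Category.assoc _ _ _)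
    exact congrArg (fun z => z ≫ pullback.fst f a) h2.symm
  · have h2 := lift_snd (Abel.ptHom x) (up (k := a) (U := T) (psiCl ψg (tr a T c) ((isDeg_tr a).2 hc)))
    have h3 := congrArg (fun q => dnMap a q ≫ prj a Jg) h2
    have h4 := dnMap_up_prj (k := a) (U := T) (psiCl ψg (tr a T c) ((isDeg_tr a).2 hc))
    refine Eq.trans h4.symm ?_
    refine Eq.trans h3.symm ?_
    ext1
    exact Category.assoc _ _ _

end fm

section univ

variable {k : Type u} [Field k] {X : Scheme.{u}} {f : X ⟶ Spec (CommRingCat.of k)}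
  [IsProper f] [Smooth f] [GeometricallyConnected f] [SmoothOfRelativeDimension 1 f]

omit [IsProper f] [SmoothOfRelativeDimension 1 f] in
theorem gInt : Groth.Agent.Ega3A.PicGood.GInt f := fun _ _ _ s =>
  have := K914.Curve.geometricallyIntegral f
  GeometricallyIntegral.geometrically_isIntegral _ _ _ (IsPullback.of_hasPullback _ s)

/-- The étale Picard functor of a curve is representable. -/
theorem exists_rep (hX : Curve.IsSmoothProperCurve k X f) :
    ∃ P : Over (Spec (CommRingCat.of k)), PicRel.RepresentedBy f P ∧ IsSeparated P.hom := by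
  have := K914.Curve.geometricallyIntegral f
  obtain ⟨n, i, hi, rfl⟩ := Sga7.H780.JK.exists_embedding k X f hX
  obtain ⟨P, hP, hsep, -⟩ := S3226.result (Spec (CommRingCat.of k)) X n i (fun Ω _ _ s =>
    GeometricallyIntegral.geometrically_isIntegral _ _ _ (IsPullback.of_hasPullback _ s))
  exact ⟨P, hP, hsep⟩

theorem isSh (hX : Curve.IsSmoothProperCurve k X f) {d : ℤ} {J : Over (Spec (CommRingCat.of k))}
    {ψ : (ModFun.PicDeg f d).Hom ⊤ J} (hJ : ModFun.IsCoarseModuli ⊤ (ModFun.PicDeg f d) J ψ) : IsSh ψ := by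
  obtain ⟨P₁⟩ := Picfga.CurveP1.exists_p1Data hX
  obtain ⟨P, hP, -⟩ := exists_rep hX
  exact K317.ShEx.isSh_of_isCoarse P₁ ⟨P, hP⟩ hJ

theorem isSeparated_of_coarse (hX : Curve.IsSmoothProperCurve k X f) {d : ℤ} {J : Over (Spec (CommRingCat.of k))}
    {ψ : (ModFun.PicDeg f d).Hom ⊤ J} (hJ : ModFun.IsCoarseModuli ⊤ (ModFun.PicDeg f d) J ψ) :
    IsSeparated J.hom := by
  obtain ⟨P₁⟩ := Picfga.CurveP1.exists_p1Data hX
  obtain ⟨P, ⟨φ, hφ⟩, hsep⟩ := exists_rep hX
  obtain ⟨U, χ, hχ, -⟩ := K317.ShEx.exists_isSh P₁ hφ d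
  have hco := hχ.isCoarse
  obtain ⟨b, hb, -⟩ := hJ.2.1 _ χ
  obtain ⟨c, hc, -⟩ := hco.2.1 _ ψ
  have hbc : b ≫ c = 𝟙 J := by
    obtain ⟨g, -, hg⟩ := hJ.2.1 J ψ
    rw [hg (b ≫ c) fun T x hT hx => by rw [← Category.assoc, ← hb, ← hc], hg (𝟙 J) fun T x hT hx => by rw [Category.comp_id]]
  have h1 : b.left ≫ c.left = 𝟙 J.left := by
    rw [← Over.comp_left, hbc]; rfl
  have h2 : Mono b.left := by
    have : IsSplitMono b.left := ⟨⟨c.left, h1⟩⟩
    infer_instance
  have h3 : J.hom = b.left ≫ U.ι ≫ P.hom := (Over.w b).symm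
  rw [h3]
  infer_instance

/-- **A family classified by the identity is universal.** -/
theorem isUnivFamily_of_isSh {d : ℤ} {J : Over (Spec (CommRingCat.of k))} {ψ : (ModFun.PicDeg f d).Hom ⊤ J}
    (hψ : IsSh ψ) (P : (PicF.XT f J).Modules) (hP : PicF.IsInvertible P) (hd : IsDeg f d (mk P hP))
    (h1 : psiCl ψ (mk P hP) hd = 𝟙 J) : ModFun.IsUnivFamily ⊤ (ModFun.PicDeg f d) J P := by
  refine ⟨(ok_iff hP).2 hd, fun T x _ hx => ?_⟩
  have hxd := isDeg_of_ok hx
  refine ⟨psiCl ψ (mk x (isInvertible_of_ok hx)) hxd, ?_, ?_⟩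
  · set g := psiCl ψ (mk x (isInvertible_of_ok hx)) hxd with hg
    have h2 : LocEq f T (mk x (isInvertible_of_ok hx)) (pu f g (mk P hP)) :=
      hψ.inj T _ _ hxd (hd.pull g) (by rw [psiCl_pu g (mk P hP) hd, h1, Category.comp_id])
    have h3 : LocEq f T (mk x (isInvertible_of_ok hx) * (pu f g (mk P hP))⁻¹) 1 := by
      obtain ⟨𝒰, h𝒰⟩ := h2
      refine ⟨𝒰, fun i => ?_⟩
      have h4 := h𝒰 i
      rw [map_mul, map_inv, map_one, h4, mul_inv_cancel]
    obtain ⟨m, hm⟩ := FormalB.PicProper.exists_pull_of_locEq gInt T _ h3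
    have h5 : mk x (isInvertible_of_ok hx) = pull (PicF.XTmap f g) (mk P hP) * pull (PicF.XTproj f T) m := by
      rw [← hm, pu, mul_comm, inv_mul_cancel_right]
    obtain ⟨M, hM, hMc⟩ := exists_mk m
    refine ⟨M, hM, ?_⟩
    rw [hMc, pull_mk, pull_mk, mk_mul_mk] at h5
    exact (mk_eq_iff _ _).1 h5
  · rintro g' ⟨M, hM, ⟨e⟩⟩
    have hPg : PicF.IsInvertible ((Scheme.Modules.pullback (PicF.XTmap f g')).obj P) :=
      Fdesc.LocGen.isInvertible_pullback _ hP
    have h2 : mk x (isInvertible_of_ok hx) = pull (PicF.XTmap f g') (mk P hP) * pull (PicF.XTproj f T) (mk M hM) := by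
      rw [pull_mk, pull_mk, mk_mul_mk]
      exact (mk_eq_iff _ _).2 ⟨e⟩
    have h3 := psiCl_mul_proj ψ (pull (PicF.XTmap f g') (mk P hP)) _ _ (hd.pull g') hxd h2
    rw [← h3, ← comp_psiCl ψ g' (mk P hP) hd, h1, Category.comp_id]

end univ

section desc

variable {k : Type u} [Field k] {X : Scheme.{u}} {f : X ⟶ Spec (CommRingCat.of k)}
  {K : Type u} [Field K] (a : Spec (CommRingCat.of K) ⟶ Spec (CommRingCat.of k))
  [IsProper f] [Smooth f] [GeometricallyConnected f] [SmoothOfRelativeDimension 1 f]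
  {d : ℤ} {J : Over (Spec (CommRingCat.of k))} {ψ : (ModFun.PicDeg f d).Hom ⊤ J}

theorem surjective_spec : Surjective a := by
  refine ⟨fun y => ⟨IsLocalRing.closedPoint K, Subsingleton.elim (α := PrimeSpectrum k) _ _⟩⟩

theorem flat_spec : Flat a := by infer_instance

omit [Smooth f] [GeometricallyConnected f] [SmoothOfRelativeDimension 1 f] in
/-- Degrees may be tested after extension of the base field. -/
theorem isDeg_of_prj {c : Pic (PicF.XT f J)} (hc : IsDeg f d (pull (PicF.XTmap f (prj a J)) c)) : IsDeg f d c := by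
  intro τ
  have hs : Surjective (pullback.fst J.hom a) := by
    have := surjective_spec a
    infer_instance
  obtain ⟨τ', hτ'⟩ := hs.surj τ
  have h1 := hc τ'
  rw [chiAt_pull (Fga.JacFib.bcStep f) (prj a J)] at h1
  have h2 := chiAt_pull (Fga.JacFib.bcStep f) (prj a J) τ' 1
  rw [map_one] at h2
  rw [h2] at h1
  have h3 : (prj a J).left τ' = τ := hτ'
  rw [h3] at h1
  exact h1

theorem eq_id_of_prj (c : Pic (PicF.XT f J)) (hc : IsDeg f d c)
    (h : psiCl ψ (pull (PicF.XTmap f (prj a J)) c) (hc.pull (prj a J)) = prj a J) : psiCl ψ c hc = 𝟙 J := by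
  rw [← comp_psiCl ψ (prj a J) c hc] at h
  have hs : Surjective (pullback.fst J.hom a) := by
    have := surjective_spec a
    infer_instance
  have hf : Flat (pullback.fst J.hom a) := inferInstance
  have he : Epi (pullback.fst J.hom a) := Flat.epi_of_flat_of_surjective _
  ext1
  rw [← cancel_epi (pullback.fst J.hom a)]
  have h1 := congrArg (fun q => Over.Hom.left q) h
  refine Eq.trans h1 ?_
  exact (Category.comp_id _).symm

omit [IsProper f] [Smooth f] [GeometricallyConnected f] [SmoothOfRelativeDimension 1 f] in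
theorem pp_left (Jg : Over (Spec (CommRingCat.of k))) :
    (eT f a (Red.bc a Jg)).hom ≫ (pp a f Jg).left = PicF.XTmap f (prj a Jg) := by
  apply pullback.hom_ext
  · have e1 : (pp a f Jg).left ≫ pullback.fst f Jg.hom =
        pullback.fst (pullback.snd f a) (pullback.snd Jg.hom a) ≫ pullback.fst f a :=
      congrArg (fun q => Over.Hom.left q) (lift_fst
        (dnMap a (fst (Over.mk (pullback.snd f a)) (Red.bc a Jg)) ≫ prX a f)
        (dnMap a (snd (Over.mk (pullback.snd f a)) (Red.bc a Jg)) ≫ prj a Jg))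
    refine (Category.assoc _ _ _).trans ?_
    refine (congrArg (fun z => (eT f a (Red.bc a Jg)).hom ≫ z) e1).trans ?_
    refine (eT_hom_fst_fst f a (Red.bc a Jg)).trans ?_
    exact (XTmap_fst f (prj a Jg)).symm
  · have e1 : (pp a f Jg).left ≫ pullback.snd f Jg.hom =
        pullback.snd (pullback.snd f a) (pullback.snd Jg.hom a) ≫ pullback.fst Jg.hom a :=
      congrArg (fun q => Over.Hom.left q) (lift_snd
        (dnMap a (fst (Over.mk (pullback.snd f a)) (Red.bc a Jg)) ≫ prX a f)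
        (dnMap a (snd (Over.mk (pullback.snd f a)) (Red.bc a Jg)) ≫ prj a Jg))
    refine (Category.assoc _ _ _).trans ?_
    refine (congrArg (fun z => (eT f a (Red.bc a Jg)).hom ≫ z) e1).trans ?_
    refine (Category.assoc _ _ _).symm.trans ?_
    refine (congrArg (fun z => z ≫ pullback.fst Jg.hom a) (eT_hom_snd f a (Red.bc a Jg))).trans ?_
    exact (XTmap_XTproj f (prj a Jg)).symm

omit [IsProper f] [Smooth f] [GeometricallyConnected f] [SmoothOfRelativeDimension 1 f] in
/-- The class of the pulled back line bundle after base change. -/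
theorem tr_fmK {Jg J' : Over (Spec (CommRingCat.of k))} (fm : Over.mk f ⊗ Jg ⟶ J') (θ : Pic J'.left) :
    tr a (Red.bc a Jg) (pull (fmK a fm).left (pull (pullback.fst J'.hom a) θ) :
      Pic (PicF.XT (pullback.snd f a) (Red.bc a Jg))) =
      pull (PicF.XTmap f (prj a Jg)) (pull fm.left θ : Pic (PicF.XT f Jg)) := by
  have h1 : (fmK a fm).left ≫ pullback.fst J'.hom a = (pp a f Jg).left ≫ fm.left := up_left_fst _
  have h2 := pp_left a (f := f) Jg
  rw [tr]
  refine (pull_comp _ _ _).symm.trans ?_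
  refine (pull_comp _ _ _).symm.trans ?_
  refine Eq.trans ?_ (pull_comp _ _ _)
  rw [← h2]
  refine congrArg (fun z => pull z θ) ?_
  refine (Category.assoc _ _ _).trans ?_
  refine (congrArg (fun z => (eT f a (Red.bc a Jg)).hom ≫ z) h1).trans ?_
  exact (Category.assoc _ _ _).symm

omit [Field k] in
theorem isInvertible_of_iso {Y : Scheme.{u}} {L L' : Y.Modules} (e : L ≅ L') (h : PicF.IsInvertible L) :
    PicF.IsInvertible L' := fun x => by
  obtain ⟨U, hU, ⟨i⟩⟩ := h x
  exact ⟨U, hU, ⟨((Scheme.Modules.restrictFunctor U.ι).mapIso e).symm ≪≫ i⟩⟩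

theorem jumpLocus_congr {M M' : X.Modules} (hM : PicF.IsInvertible M) (e : M ≅ M') :
    Jac.jumpLocus f d ψ M = Jac.jumpLocus f d ψ M' := by
  have hM' : PicF.IsInvertible M' := isInvertible_of_iso e hM
  have h : mk M hM = mk M' hM' := mk_congr e
  ext y
  rw [K317.ThetaBC.mem_jumpLocus_iff' ψ M hM, K317.ThetaBC.mem_jumpLocus_iff' ψ M' hM', h]

theorem isThetaLB_congr {M M' : X.Modules} (hM : PicF.IsInvertible M) (e : M ≅ M') {Θ : J.left.Modules}
    (h : Jac.IsThetaLB f d ψ M Θ) : Jac.IsThetaLB f d ψ M' Θ := by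
  have h1 : Jac.thetaLocus f d ψ M = Jac.thetaLocus f d ψ M' := by
    rw [Jac.thetaLocus, Jac.thetaLocus, jumpLocus_congr hM e]
  refine ⟨h.1, ?_⟩
  have h2 := h.2
  simp only [h1] at h2
  exact h2

end desc

/-- **Frozen S17136.** -/
theorem main (k : Type u) [Field k]
    (X : Scheme.{u}) [X.Over (Spec (CommRingCat.of k))]
    [IsProper (X ↘ Spec (CommRingCat.of k))] [Smooth (X ↘ Spec (CommRingCat.of k))]
    [GeometricallyConnected (X ↘ Spec (CommRingCat.of k))] (hdim : topologicalKrullDim ↥X = 1)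
    (g : ℕ) (hg : Curv2.genus k X = g) (hg1 : 1 ≤ g)
    (Jg : Over (Spec (CommRingCat.of k)))
    (ψg : (ModFun.PicDeg (X ↘ Spec (CommRingCat.of k)) (g : ℤ)).Hom ⊤ Jg)
    (hJg : ModFun.IsCoarseModuli ⊤ (ModFun.PicDeg (X ↘ Spec (CommRingCat.of k)) (g : ℤ)) Jg ψg)
    (J' : Over (Spec (CommRingCat.of k)))
    (ψ' : (ModFun.PicDeg (X ↘ Spec (CommRingCat.of k)) ((g : ℤ) - 1)).Hom ⊤ J')
    (hJ' : ModFun.IsCoarseModuli ⊤ (ModFun.PicDeg (X ↘ Spec (CommRingCat.of k)) ((g : ℤ) - 1)) J' ψ')
    (Θ' : J'.left.Modules) (hΘ' : Jac.IsThetaLB (X ↘ Spec (CommRingCat.of k)) ((g : ℤ) - 1) ψ' (Coh.structureModule X) Θ')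
    (fm : Over.mk (X ↘ Spec (CommRingCat.of k)) ⊗ Jg ⟶ J')
    (hfm : Jac.IsBinOpMap
      (ModFun.Problem.Hom.ofNatTrans (𝟙 ((AlgSp.pyon (Spec (CommRingCat.of k))).obj (Over.mk (X ↘ Spec (CommRingCat.of k)))))) ψg ψ'
      (fun (T : Over (Spec (CommRingCat.of k))) (x : ULift.{u + 1} (T ⟶ Over.mk (X ↘ Spec (CommRingCat.of k))))
        (M N : (PicF.XT (X ↘ Spec (CommRingCat.of k)) T).Modules) =>
        Nonempty (N ≅ CohB1.tensorMod M (ClSub.idealMod
          (pullback.lift x.down.left (𝟙 T.left) ((Over.w x.down).trans (Category.id_comp T.hom).symm) :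
            T.left ⟶ PicF.XT (X ↘ Spec (CommRingCat.of k)) T).ker)))
      fm) :
    ModFun.IsUnivFamily ⊤ (ModFun.PicDeg (X ↘ Spec (CommRingCat.of k)) (g : ℤ)) Jg ((Scheme.Modules.pullback fm.left).obj Θ') := by
  let f := X ↘ Spec (CommRingCat.of k)
  let K := AlgebraicClosure k
  let a : Spec (CommRingCat.of K) ⟶ Spec (CommRingCat.of k) := Spec.map (CommRingCat.ofHom (algebraMap k K))
  have hs : SmoothOfRelativeDimension 1 f := K532.Base.smoothOfRelDim _ hdim
  have hX' : Curve.IsSmoothProperCurve k X f := K532.Base.isSmoothProperCurve f hdim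
  have hsub : IsSub ψg ψ' fm := isSub_of_binOp ψg ψ' fm hfm
  have hSg : IsSh ψg := isSh hX' hJg
  have hS' : IsSh ψ' := isSh hX' hJ'
  have hsep : IsSeparated J'.hom := isSeparated_of_coarse hX' hJ'
  -- the curve over `K`
  let _ : (pullback f a).Over (Spec (CommRingCat.of K)) := ⟨pullback.snd f a⟩
  have i1 : IsProper (pullback f a ↘ Spec (CommRingCat.of K)) := inferInstanceAs (IsProper (pullback.snd f a))
  have i2 : Smooth (pullback f a ↘ Spec (CommRingCat.of K)) := inferInstanceAs (Smooth (pullback.snd f a))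
  have i3 : GeometricallyConnected (pullback f a ↘ Spec (CommRingCat.of K)) :=
    inferInstanceAs (GeometricallyConnected (pullback.snd f a))
  have i4 : SmoothOfRelativeDimension 1 (pullback f a ↘ Spec (CommRingCat.of K)) :=
    inferInstanceAs (SmoothOfRelativeDimension 1 (pullback.snd f a))
  have hdK : topologicalKrullDim ↥(pullback f a) = 1 := by
    rw [← hdim]
    exact Etcore.DimBaseChange.topologicalKrullDim_eq (Field.toIsField k)
      (Field.toIsField K) f _ _ _ (IsPullback.of_hasPullback f a)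
  have hc : CompactSpace X := (quasiCompact_iff_compactSpace f).1 inferInstance
  have hqs : QuasiSeparatedSpace X := (quasiSeparated_iff_quasiSeparatedSpace f).1 inferInstance
  have hgK : Curv2.genus K (pullback f a) = g := by
    rw [K317.FieldBC.genus_bc k K (pullback.fst f a) (IsPullback.of_hasPullback f a), hg]
  -- the theta line bundle over `K`
  have hO : PicF.IsInvertible (Coh.structureModule X) := Fdesc.LocGen.isInvertible_structureModule
  have hdO : K317.JumpPts.HasDeg f (mk (Coh.structureModule X) hO) 0 := by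
    intro T
    have : K317.JumpPts.NT f (mk (Coh.structureModule X) hO) T = 1 := map_one _
    rw [this]
    exact isDeg_one
  have hΘ1 := K317.ThetaBC.isThetaLB_bc ψ' a (Coh.structureModule X) hO hdO
    (n := g - 1) (by push_cast [Nat.cast_sub hg1]; ring) hΘ'
  have hΘK : Jac.IsThetaLB (pullback.snd f a) ((g : ℤ) - 1) (psiK a ψ') (Coh.structureModule (pullback f a))
      ((Scheme.Modules.pullback (pullback.fst J'.hom a)).obj Θ') :=
    isThetaLB_congr (Fdesc.LocGen.isInvertible_pullback _ hO)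
      (Ega3B.PullTensor.nonempty_pullUnitIso (pullback.fst f a)).some hΘ1
  obtain ⟨hd, hid⟩ := K532.UnivId.main K (pullback f a) hdK g hgK hg1 (Red.bc a Jg) (psiK a ψg) (isCoarse_psiK a hSg)
    (Red.bc a J') (psiK a ψ') (isCoarse_psiK a hS') _ hΘK (fmK a fm) (isSub_psiK a hsub)
  have e1 : mk ((Scheme.Modules.pullback (pullback.fst J'.hom a)).obj Θ') hΘK.1 =
      pull (pullback.fst J'.hom a) (mk Θ' hΘ'.1) := (pull_mk _ hΘ'.1).symm
  have e2 := tr_fmK a (f := f) fm (mk Θ' hΘ'.1)
  rw [← e1] at e2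
  have hP : PicF.IsInvertible (Y := PicF.XT f Jg) ((Scheme.Modules.pullback fm.left).obj Θ') :=
    Fdesc.LocGen.isInvertible_pullback fm.left hΘ'.1
  have e3 : (pull fm.left (mk Θ' hΘ'.1) : Pic (PicF.XT f Jg)) =
      mk (X := PicF.XT f Jg) ((Scheme.Modules.pullback fm.left).obj Θ') hP := pull_mk fm.left hΘ'.1
  rw [e3] at e2
  have hd1 : IsDeg f (g : ℤ) (pull (PicF.XTmap f (prj a Jg))
      (mk (X := PicF.XT f Jg) ((Scheme.Modules.pullback fm.left).obj Θ') hP)) := by
    rw [← e2]
    exact (isDeg_tr a).2 hd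
  have hd2 := isDeg_of_prj a hd1
  refine isUnivFamily_of_isSh hSg _ hP hd2 (eq_id_of_prj a _ hd2 ?_)
  have h4 := (psiCl_psiK (f := f) a (ψ := ψg) (T := Red.bc a Jg) _ hd).symm.trans hid
  have h5 := up_inj (h4.trans (up_prj (k := a) (A := Jg)).symm)
  exact (psiCl_congr ψg e2.symm (hd2.pull (prj a Jg))).trans h5

end K532.UnivDesc
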