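import Groth.Agent.JacVar.K532.A17136

/-!
# The class of the pulled back theta line bundle, in class form

* `IsSub ψg ψ' fm`: `fm` classifies `(x, c) ↦ c(-x)` on classes.
* `isSub_of_binOp`: from the form of the frozen statement.
* `main`: over an algebraically closed field, the class of `fm^* Θ'` has degree `g` and is classified by the identity.
-/

set_option autoImplicit false
universe u
open CategoryTheory CategoryTheory.Limits AlgebraicGeometry MonoidalCategory CartesianMonoidalCategory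
open TopologicalSpace
open scoped MonObj

namespace K532.UnivId

open Groth.Agent Groth.Agent.Grpsch.PicGrp Groth.Agent.Fga.RigGrp Groth.Agent.Sga7.H732.Hedge
open Groth.Agent.Sga7.H732 K532.UnitBase K532.CurvePic K532.CurvePts K532.Dict Groth.Agent.Fga.JacSum
open Groth.Agent.Fga.JacFactor K532.Setup K532.KPts K532.Wr K532.MultPts K532.Theta1 Groth.Agent.Grpsch.Cube
open K532.NonHyp K532.ThetaClass Groth.Agent.Divis.EffCartier K532.ThetaIdeal K532.Lam K532.ThetaAmple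
open K914.Cls K914.Fine Groth.Agent.Picfga.ChiDef K532.UnivTheta

section general

variable {k : Type u} [Field k] {X : Scheme.{u}} {f : X ⟶ Spec (CommRingCat.of k)}
  [IsProper f] [Smooth f] [GeometricallyConnected f] [SmoothOfRelativeDimension 1 f]

/-- `fm` classifies `(x, c) ↦ c(-x)`. -/
def IsSub {d : ℤ} {Jg J' : Over (Spec (CommRingCat.of k))} (ψg : (ModFun.PicDeg f d).Hom ⊤ Jg)
    (ψ' : (ModFun.PicDeg f (d - 1)).Hom ⊤ J') (fm : Over.mk f ⊗ Jg ⟶ J') : Prop :=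
  ∀ (T : Over (Spec (CommRingCat.of k))) (x : Pt f T) (c : Pic (PicF.XT f T)) (hc : IsDeg f d c)
    (hc' : IsDeg f (d - 1) (c * gcl f x)), psiCl ψ' (c * gcl f x) hc' = lift (Abel.ptHom x) (psiCl ψg c hc) ≫ fm

theorem isSub_of_binOp {d : ℤ} {Jg J' : Over (Spec (CommRingCat.of k))} (ψg : (ModFun.PicDeg f d).Hom ⊤ Jg)
    (ψ' : (ModFun.PicDeg f (d - 1)).Hom ⊤ J') (fm : Over.mk f ⊗ Jg ⟶ J')
    (hfm : Jac.IsBinOpMap
      (ModFun.Problem.Hom.ofNatTrans (𝟙 ((AlgSp.pyon (Spec (CommRingCat.of k))).obj (Over.mk f)))) ψg ψ'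
      (fun (T : Over (Spec (CommRingCat.of k))) (x : ULift.{u + 1} (T ⟶ Over.mk f))
        (M N : (PicF.XT f T).Modules) =>
        Nonempty (N ≅ CohB1.tensorMod M (ClSub.idealMod
          (pullback.lift x.down.left (𝟙 T.left) ((Over.w x.down).trans (Category.id_comp T.hom).symm) :
            T.left ⟶ PicF.XT f T).ker)))
      fm) : IsSub ψg ψ' fm := by
  intro T x c hc hc'
  obtain ⟨M, hM, rfl⟩ := exists_mk c
  have hMok : (ModFun.PicDeg f d).ok T M := (ok_iff hM).2 hc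
  obtain ⟨(z : (PicF.XT f T).Modules), hzok, hz⟩ := hfm.1 T ⟨Abel.ptHom x⟩ M trivial trivial hMok
  have h1 := hfm.2 T (⟨Abel.ptHom x⟩, M) z trivial ⟨trivial, hMok⟩ hzok hz
  have hzi : PicF.IsInvertible z := isInvertible_of_ok hzok
  have hzc : mk z hzi = mk M hM * gcl f x := by
    refine Eq.trans ((mk_eq_iff hzi _).2 hz) (mk_mul_mk hM (Dix.IdealModCartier.isInvertible_idealMod (isEff_secGraph f x))).symm
  have h2 : psiCl ψ' (mk M hM * gcl f x) hc' = ψ'.app T z trivial hzok :=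
    (app_eq ψ' trivial hzok _ hc' hzc).symm
  rw [h2, h1]
  have h3 : (Jac.prodHom (ModFun.Problem.Hom.ofNatTrans (𝟙 ((AlgSp.pyon (Spec (CommRingCat.of k))).obj (Over.mk f))))
      ψg).app T (⟨Abel.ptHom x⟩, M) trivial ⟨trivial, hMok⟩ =
      lift (Abel.ptHom x) (ψg.app T M trivial hMok) := rfl
  rw [h3, app_eq' ψg trivial hMok]

variable {σ : Spec (CommRingCat.of k) ⟶ X} {hσ : σ ≫ f = 𝟙 (Spec (CommRingCat.of k))}
  {J₀ : Over (Spec (CommRingCat.of k))} [GrpObj J₀] {ξ₀ : Pic (PicF.XT f J₀)} (h₀ : IsJac f σ hσ J₀ ξ₀)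
  {j : Over.mk f ⟶ J₀} (hj : IsAbel h₀ j)

omit hj in
theorem comp_fm {d : ℤ} {Jg J' : Over (Spec (CommRingCat.of k))} {ψg : (ModFun.PicDeg f d).Hom ⊤ Jg}
    {ψ' : (ModFun.PicDeg f (d - 1)).Hom ⊤ J'} (hj : IsAbel h₀ j)
    (eg : Jg ≅ J₀) (heg : ∀ (T : Over (Spec (CommRingCat.of k))) (c : Pic (PicF.XT f T)) (hc : IsDeg f d c),
      psiCl ψg c hc ≫ eg.hom = classify h₀ d c hc)
    (e' : J' ≅ J₀) (he' : ∀ (T : Over (Spec (CommRingCat.of k))) (c : Pic (PicF.XT f T)) (hc : IsDeg f (d - 1) c),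
      psiCl ψ' c hc ≫ e'.hom = classify h₀ (d - 1) c hc)
    (fm : Over.mk f ⊗ Jg ⟶ J') (hfm : IsSub ψg ψ' fm) :
    fm ≫ e'.hom = (snd (Over.mk f) Jg ≫ eg.hom) * (fst (Over.mk f) Jg ≫ j)⁻¹ := by
  let T : Over (Spec (CommRingCat.of k)) := Over.mk f ⊗ Jg
  let ξ := pull (PicF.XTmap f eg.hom) (ξ₀ * tw f hσ d J₀)
  have hξ : IsDeg f d ξ := (isDeg_xi h₀ d).pull eg.hom
  have hξ1 : psiCl ψg ξ hξ = 𝟙 Jg := psiCl_xi h₀ eg heg
  let c : Pic (PicF.XT f T) := pull (PicF.XTmap f (snd (Over.mk f) Jg)) ξ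
  have hc : IsDeg f d c := hξ.pull (snd (Over.mk f) Jg)
  let x : Pt f T := ⟨(fst (Over.mk f) Jg).left, Over.w (fst (Over.mk f) Jg)⟩
  have hc' : IsDeg f (d - 1) (c * gcl f x) := (hc.mul (isDeg_gcl x)).congr (by ring) rfl
  have h4 : psiCl ψg c hc = snd (Over.mk f) Jg := by
    rw [← comp_psiCl ψg (snd (Over.mk f) Jg) ξ hξ, hξ1, Category.comp_id]
  have h2 := hfm T x c hc hc'
  have hx : Abel.ptHom x = fst (Over.mk f) Jg := rfl
  rw [h4, hx] at h2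
  have h3 : lift (fst (Over.mk f) Jg) (snd (Over.mk f) Jg) ≫ fm = fm :=
    (congrArg (fun q => q ≫ fm) (lift_fst_snd (X := Over.mk f) (Y := Jg))).trans (Category.id_comp fm)
  have h5 : fm ≫ e'.hom = classify h₀ (d - 1) (c * gcl f x) hc' := by
    rw [← he', h2]
    exact congrArg (fun q => q ≫ e'.hom) h3.symm
  rw [h5, classify_gcl h₀ hj c hc x]
  have h7 : classify h₀ d c hc = snd (Over.mk f) Jg ≫ eg.hom := by
    rw [← heg, h4]
  rw [h7]
  rfl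

end general

/-- **The class of `fm^* Θ'` over an algebraically closed field.** -/
theorem main (k : Type u) [Field k] [IsAlgClosed k]
    (X : Scheme.{u}) [X.Over (Spec (CommRingCat.of k))]
    [IsProper (X ↘ Spec (CommRingCat.of k))] [Smooth (X ↘ Spec (CommRingCat.of k))]
    [GeometricallyConnected (X ↘ Spec (CommRingCat.of k))] [SmoothOfRelativeDimension 1 (X ↘ Spec (CommRingCat.of k))]
    (hdim : topologicalKrullDim ↥X = 1)
    (g : ℕ) (hg : Curv2.genus k X = g) (hg1 : 1 ≤ g)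
    (Jg : Over (Spec (CommRingCat.of k)))
    (ψg : (ModFun.PicDeg (X ↘ Spec (CommRingCat.of k)) (g : ℤ)).Hom ⊤ Jg)
    (hJg : ModFun.IsCoarseModuli ⊤ (ModFun.PicDeg (X ↘ Spec (CommRingCat.of k)) (g : ℤ)) Jg ψg)
    (J' : Over (Spec (CommRingCat.of k)))
    (ψ' : (ModFun.PicDeg (X ↘ Spec (CommRingCat.of k)) ((g : ℤ) - 1)).Hom ⊤ J')
    (hJ' : ModFun.IsCoarseModuli ⊤ (ModFun.PicDeg (X ↘ Spec (CommRingCat.of k)) ((g : ℤ) - 1)) J' ψ')
    (Θ' : J'.left.Modules) (hΘ' : Jac.IsThetaLB (X ↘ Spec (CommRingCat.of k)) ((g : ℤ) - 1) ψ' (Coh.structureModule X) Θ')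
    (fm : Over.mk (X ↘ Spec (CommRingCat.of k)) ⊗ Jg ⟶ J') (hfm : IsSub ψg ψ' fm) :
    ∃ (hd : IsDeg (X ↘ Spec (CommRingCat.of k)) (g : ℤ)
      (pull fm.left (mk Θ' hΘ'.1) : Pic (PicF.XT (X ↘ Spec (CommRingCat.of k)) Jg))),
      psiCl ψg (pull fm.left (mk Θ' hΘ'.1) : Pic (PicF.XT (X ↘ Spec (CommRingCat.of k)) Jg)) hd = 𝟙 Jg := by
  have hX' := Base.isSmoothProperCurve (X ↘ Spec (CommRingCat.of k)) hdim
  have hX := isCurve_of_isAlgClosed k X hX'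
  have hint := hX.integral
  obtain ⟨x, -⟩ := exists_kpt hX (⊤ : X.Opens) ⟨genericPoint X, trivial⟩
  obtain ⟨J₀, _, ξ₀, hp, hgi, h₀⟩ := K914.Fine.exists_isJac (X ↘ Spec (CommRingCat.of k)) x.1 x.2
  have hcomm : IsCommMonObj J₀ := isCommMonObj_of_isProper_of_geometricallyIntegral _
  obtain ⟨j, hj⟩ := Abel.exists_abel h₀ hX'
  have hj' : IsAbel h₀ j := hj
  have hbase : (Over.homMk x.1 x.2 : 𝟙_ (Over (Spec (CommRingCat.of k))) ⟶
      Over.mk (X ↘ Spec (CommRingCat.of k))) ≫ j = 1 := by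
    apply kcl_injective h₀
    have := kcl_pm hX h₀ hj' (sg x.2)
    rw [inv_mul_cancel] at this
    rw [map_one]
    exact this
  obtain ⟨n, rfl⟩ : ∃ n, g = n + 1 := ⟨g - 1, by omega⟩
  have hn : gen k X = n + 1 := hg
  have hE := ThetaCartier.isEff_theta hX h₀ hj' hn
  obtain ⟨eg, heg⟩ := K914.Fine.exists_iso h₀ hJg
  obtain ⟨e', he'⟩ := K914.Fine.exists_iso h₀ hJ'
  have h1 := comp_fm h₀ hj' eg heg e' he' fm hfm
  have h2 := mk_theta_deg hX h₀ hj' hn hE hdim (δ := ((n + 1 : ℕ) : ℤ) - 1) (by push_cast; ring) e' he' hΘ'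
  have h3 := pull_fm hX h₀ hj' hn hX' hbase hE eg
  rw [← h1] at h3
  have h4 : (pull fm.left (mk Θ' hΘ'.1) : Pic (PicF.XT (X ↘ Spec (CommRingCat.of k)) Jg)) =
      pull (PicF.XTmap (X ↘ Spec (CommRingCat.of k)) eg.hom)
        (ξ₀ * tw (X ↘ Spec (CommRingCat.of k)) x.2 ((n + 1 : ℕ) : ℤ) J₀) *
      pull (PicF.XTproj (X ↘ Spec (CommRingCat.of k)) Jg) (pl (eg.hom ≫ (𝟙 J₀)⁻¹) (dcl (IT j n 1) hE)⁻¹) := by
    refine Eq.trans ?_ h3
    rw [Category.assoc, pl_comp, ← h2]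
  have hξ := (isDeg_xi h₀ ((n + 1 : ℕ) : ℤ)).pull eg.hom
  have hd : IsDeg (X ↘ Spec (CommRingCat.of k)) ((n + 1 : ℕ) : ℤ)
      (pull fm.left (mk Θ' hΘ'.1) : Pic (PicF.XT (X ↘ Spec (CommRingCat.of k)) Jg)) := by
    rw [h4]
    exact isDeg_mul_proj (σ := x.1) (hσ := x.2) _ hξ
  refine ⟨hd, ?_⟩
  rw [← psiCl_xi h₀ eg heg]
  exact (psiCl_mul_proj ψg _ _ _ hξ hd h4).symm

end K532.UnivId
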